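import Groth.Prelude.Def_RelSpec2
import Groth.Agent.Lib.ModM1.Stalk
import Groth.Agent.Lib.ClosedMod16.FinType

/-! Finite type and direct image along an affine morphism, over the direct image algebra (EGA II 1.4.5). -/

set_option autoImplicit false
set_option linter.style.haveILetI false
set_option linter.unusedSectionVars false
set_option backward.isDefEq.respectTransparency false
set_option backward.isDefEq.respectTransparency.types false

universe u

open CategoryTheory CategoryTheory.Limits AlgebraicGeometry TopologicalSpace Opposite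

noncomputable section

namespace Groth.Agent.DirImgFT3

open Groth.Agent.ModFlat16 Groth.Agent.ClosedMod16

variable {X S : Scheme.{u}} (f : X ⟶ S) [IsAffineHom f] (F : X.Modules)

/-- The direct image sheaf of rings, commutative. -/
abbrev OB : TopCat.Sheaf CommRingCat.{u} S.carrier :=
  ⟨(RelSpec.QCAlg.directImage f).presheaf, (RelSpec.QCAlg.directImage f).isSheaf⟩

/-- The direct image module. -/
abbrev DI : ModSite.Mod (OB f) := (AMod.dirImg f).obj F

theorem isUnit_ores_basicOpen {U : X.Opens} (r : Γ(X, U)) :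
    IsUnit (M1.ores (X.basicOpen_le r) r) :=
  RingedSpace.isUnit_res_basicOpen _ r

theorem isFiniteType_dirImg (hF : Coh.IsQCoh F) (hFT : CohB1.IsFT F) :
    SheafOfModules.IsFiniteType (R := ModSite.ringSh (OB f)) (DI f F) := by
  haveI : Coh.IsQCoh F := hF
  refine isFiniteType_of_forall_point fun x => ?_
  obtain ⟨U, hU, hxU, -⟩ := exists_isAffineOpen_mem_and_subset (X := S) (x := x) (U := ⊤) trivial
  have hU' : IsAffineOpen (f ⁻¹ᵁ U) := hU.preimage f
  haveI := M1.finite_sections hF hFT hU'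
  obtain ⟨n, s, hs⟩ := Module.Finite.exists_fin (R := Γ(X, f ⁻¹ᵁ U)) (M := Γ(F, f ⁻¹ᵁ U))
  refine ⟨U, hxU, ULift.{u} (Fin n), inferInstance, fun k => s k.down,
    (gens_iff _).2 fun V hV y x' hx' => ?_⟩
  obtain ⟨g, hg, hxg⟩ := hU.exists_basicOpen_le ⟨x', hx'⟩ (hV hx')
  have e : f ⁻¹ᵁ S.basicOpen g = X.basicOpen (f.app U g) := Scheme.Hom.preimage_basicOpen f g
  let g' : Γ(X, f ⁻¹ᵁ U) := f.app U g
  have hVW : X.basicOpen g' ≤ f ⁻¹ᵁ V := e.ge.trans (f.preimage_mono hg)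
  let y₀ : Γ(F, f ⁻¹ᵁ V) := y
  obtain ⟨k, t₀, ht⟩ := M1.exists_pow_smul_eq_res_affine F hU' g' (M1.mres F hVW y₀)
  have hmem : t₀ ∈ Submodule.span Γ(X, f ⁻¹ᵁ U) (Set.range s) := by rw [hs]; exact Submodule.mem_top
  obtain ⟨a, ha⟩ := (Submodule.mem_span_range_iff_exists_fun _).1 hmem
  have hu := (isUnit_ores_basicOpen g').pow k
  obtain ⟨u, hu⟩ := hu.exists_left_inv
  refine ⟨S.basicOpen g, hg, hxg, fun j => M1.ores e.le (u * M1.ores (X.basicOpen_le g') (a j.down)), ?_⟩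
  have hW : f ⁻¹ᵁ S.basicOpen g ≤ f ⁻¹ᵁ U := f.preimage_mono (S.basicOpen_le g)
  show M1.mres F (f.preimage_mono hg) y₀ = ∑ j : ULift.{u} (Fin n),
    M1.ores e.le (u * M1.ores (X.basicOpen_le g') (a j.down)) • M1.mres F hW (s j.down)
  rw [← M1.mres_mres F hVW e.le, ← one_smul Γ(X, X.basicOpen g') (M1.mres F hVW y₀), ← hu,
    ← smul_smul, ← ht, ← ha, map_sum, Finset.smul_sum, map_sum]
  refine (Fintype.sum_equiv Equiv.ulift _ _ fun j => ?_).symm
  simp only [M1.mres_smul, smul_smul, map_mul, M1.mres_mres]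
  rfl

theorem isFiniteType_of_dirImg (hF : Coh.IsQCoh F)
    [SheafOfModules.IsFiniteType (R := ModSite.ringSh (OB f)) (DI f F)] :
    SheafOfModules.IsFiniteType (R := ModSite.ringSh X.sheaf) (F : ModSite.Mod X.sheaf) := by
  haveI : Coh.IsQCoh F := hF
  refine isFiniteType_of_forall_point fun z => ?_
  obtain ⟨V, hzV, ι, _, s, hs⟩ := exists_hasGens (DI f F) (f.base z)
  obtain ⟨U, hU, hzU, hUV⟩ := exists_isAffineOpen_mem_and_subset hzV
  have hU' : IsAffineOpen (f ⁻¹ᵁ U) := hU.preimage f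
  let s₀ : ι → Γ(F, f ⁻¹ᵁ V) := s
  refine ⟨f ⁻¹ᵁ U, hzU, ι, inferInstance, fun j => M1.mres F (f.preimage_mono hUV) (s₀ j),
    (gens_iff _).2 fun W hW y z' hz' => ?_⟩
  obtain ⟨r, hr, hzr⟩ := hU'.exists_basicOpen_le ⟨z', hz'⟩ (hW hz')
  let y₀ : Γ(F, W) := y
  obtain ⟨k, t₀, ht⟩ := M1.exists_pow_smul_eq_res_affine F hU' r (M1.mres F hr y₀)
  obtain ⟨U'', hU'', hzU'', c, hc⟩ := (gens_iff s).1 hs U hUV t₀ (f.base z') (hW hz')
  let c₀ : ι → Γ(X, f ⁻¹ᵁ U'') := c
  have hc' : M1.mres F (f.preimage_mono hU'') t₀ =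
      ∑ j, c₀ j • M1.mres F (f.preimage_mono (hU''.trans hUV)) (s₀ j) := hc
  let W'' : X.Opens := X.basicOpen r ⊓ f ⁻¹ᵁ U''
  obtain ⟨u, hu⟩ := ((isUnit_ores_basicOpen r).pow k).exists_left_inv
  refine ⟨W'', inf_le_left.trans hr, ⟨hzr, hzU''⟩,
    fun j => M1.ores inf_le_left u * M1.ores inf_le_right (c₀ j), ?_⟩
  have h1 := congrArg (M1.mres F (inf_le_right : W'' ≤ f ⁻¹ᵁ U'')) hc'
  show M1.mres F ((inf_le_left : W'' ≤ X.basicOpen r).trans hr) y₀ =
    ∑ j, (M1.ores (inf_le_left : W'' ≤ X.basicOpen r) u *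
      M1.ores (inf_le_right : W'' ≤ f ⁻¹ᵁ U'') (c₀ j) : Γ(X, W'')) •
    M1.mres F ((inf_le_left : W'' ≤ X.basicOpen r).trans (hr.trans hW))
      (M1.mres F (f.preimage_mono hUV) (s₀ j))
  rw [← M1.mres_mres F hr inf_le_left, ← one_smul Γ(X, X.basicOpen r) (M1.mres F hr y₀), ← hu,
    ← smul_smul, ← ht, M1.mres_smul, M1.mres_mres]
  rw [M1.mres_mres, map_sum] at h1
  refine (congrArg (M1.ores inf_le_left u • ·) h1).trans ?_
  rw [Finset.smul_sum]
  refine Finset.sum_congr rfl fun j _ => ?_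
  rw [M1.mres_smul, smul_smul, M1.mres_mres, M1.mres_mres]

theorem iff_dirImg (hF : Coh.IsQCoh F) :
    SheafOfModules.IsFiniteType.{u} (R := X.ringCatSheaf) F ↔
      SheafOfModules.IsFiniteType.{u} (R := AMod.ringSheaf (RelSpec.QCAlg.directImage f))
        ((AMod.dirImg f).obj F) :=
  ⟨fun h => isFiniteType_dirImg f F hF h,
    fun h => haveI : SheafOfModules.IsFiniteType (R := ModSite.ringSh (OB f)) (DI f F) := h
      isFiniteType_of_dirImg f F hF⟩

end Groth.Agent.DirImgFT3
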